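import Cfsg.Agent.Helper42.B43c.PBDefs
import Cfsg.Agent.Helper20.D8Main

/-!
# S4700, piece (F4), primed on (F12) and (F3): the character of degree `p - 1`

The "mod `s`" argument: if `n` is not of Brauer's exceptional form, the principal block contains a
non-exceptional character of degree `p - 1` (with sign `-1`).
-/

set_option autoImplicit false

namespace Cfsg.Agent.Helper68.B43c

open Cfsg Cfsg.Agent.Helper42.B43c

universe u

variable {G : Type u} [Group G] [Fintype G] {p : ℕ} [Fact p.Prime] (P : Sylow p G) {e : ℕ}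
  (D : PBlk P e)

theorem charDegree_principal :
    charDegree ((Helper79.principalIrr G : IrrCharacter G) : G → ℂ) = 1 := by
  have h1 := Helper79.irr_one (Helper79.principalIrr G)
  have h2 : ((Helper79.principalIrr G : IrrCharacter G) : G → ℂ) 1 = 1 := rfl
  rw [h2] at h1
  exact_mod_cast h1.symm

theorem eq_principal_of_charDegree_one (hperf : commutator G = ⊤) (χ : IrrCharacter G)
    (h : charDegree (χ : G → ℂ) = 1) : χ = Helper79.principalIrr G := by
  apply Helper20.D8.eq_principal_of_degree_one hperf χ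
  rw [Helper79.irr_one, h, Nat.cast_one]

theorem mod_of_modEq_one {p d : ℕ} (hp : 2 ≤ p) (h : (d : ℤ) ≡ 1 [ZMOD p]) : d % p = 1 := by
  have h1 : d ≡ 1 [MOD p] := by
    apply Int.natCast_modEq_iff.mp
    simpa using h
  have h2 : d % p = 1 % p := h1
  rw [h2]
  exact Nat.mod_eq_of_lt (by omega)

theorem mod_of_modEq_neg {p d c : ℕ} (h : (d : ℤ) ≡ -1 * (c : ℤ) [ZMOD p]) :
    (d + c) % p = 0 := by
  have h1 : ((d + c : ℕ) : ℤ) ≡ 0 [ZMOD p] := by
    have h2 := h.add_right (c : ℤ)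
    have e1 : -1 * (c : ℤ) + (c : ℤ) = 0 := by ring
    rw [e1] at h2
    rw [Nat.cast_add]
    exact h2
  have h3 : (p : ℤ) ∣ ((d + c : ℕ) : ℤ) := Int.modEq_zero_iff_dvd.mp h1
  exact Nat.mod_eq_zero_of_dvd (Int.natCast_dvd_natCast.mp h3)

theorem mod_of_modEq_pos {p y c : ℕ} (hc : c < p) (h : (y : ℤ) ≡ 1 * (c : ℤ) [ZMOD p]) :
    y % p = c := by
  have h1 : y ≡ c [MOD p] := by
    apply Int.natCast_modEq_iff.mp
    simpa using h
  have h2 : y % p = c % p := h1
  rw [h2]
  exact Nat.mod_eq_of_lt hc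

open Classical in
/-- the sum `∑_X εX χ deg χ` is congruent to `[1 ∈ X]` modulo `s`, if no character of `X` has
sign `-1` and degree `p - 1` -/
theorem sum_X_modEq (hperf : commutator G = ⊤) (s : ℕ) (hs2 : 2 ≤ s) (he2 : 2 ≤ e) (t : ℕ)
    (HX : ∀ χ ∈ D.X, (D.εX χ = 1 ∧ (charDegree (χ : G → ℂ) = 1 ∨ charDegree (χ : G → ℂ) = s)) ∨
      (D.εX χ = -1 ∧ t = 1 ∧ charDegree (χ : G → ℂ) = s * e)) :
    (s : ℤ) ∣ (∑ᶠ χ ∈ D.X, D.εX χ * (charDegree (χ : G → ℂ) : ℤ)) -
      (if Helper79.principalIrr G ∈ D.X then 1 else 0) := by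
  classical
  have : Finite (IrrCharacter G) := Helper79.irr_finite'
  have hXfin : D.X.Finite := Set.toFinite _
  rw [finsum_mem_eq_finite_toFinset_sum _ hXfin]
  have hc : (if Helper79.principalIrr G ∈ D.X then (1 : ℤ) else 0) =
      ∑ χ ∈ hXfin.toFinset, (if χ = Helper79.principalIrr G then (1 : ℤ) else 0) := by
    rw [Finset.sum_ite_eq' hXfin.toFinset (Helper79.principalIrr G) (fun _ => (1 : ℤ))]
    simp only [Set.Finite.mem_toFinset]
  rw [hc, ← Finset.sum_sub_distrib]
  apply Finset.dvd_sum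
  intro χ hχ
  rw [Set.Finite.mem_toFinset] at hχ
  rcases HX χ hχ with ⟨h1, h2 | h2⟩ | ⟨h1, _, h2⟩
  · have hpr := eq_principal_of_charDegree_one hperf χ h2
    rw [if_pos hpr, h1, h2]
    norm_num
  · have hne : χ ≠ Helper79.principalIrr G := by
      intro hpr
      rw [hpr, charDegree_principal] at h2
      omega
    rw [if_neg hne, h1, h2]
    norm_num
  · have hne : χ ≠ Helper79.principalIrr G := by
      intro hpr
      rw [hpr, charDegree_principal] at h2
      have : 4 ≤ s * e := by nlinarith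
      omega
    rw [if_neg hne, h1, h2]
    refine ⟨-(e : ℤ), ?_⟩
    push_cast
    ring

/-- (F4), primed on (F12) `degree_equation` and (F3) `deg_dvd_X`, `deg_dvd_Y`. -/
theorem exists_neg_of
    (hdvdX : ∀ χ ∈ D.X, charDegree (χ : G → ℂ) ∣
      e * (Subgroup.normalizer ((P : Subgroup G) : Set G)).index)
    (hdvdY : ∀ θ ∈ D.Y, charDegree (θ : G → ℂ) ∣
      e * (Subgroup.normalizer ((P : Subgroup G) : Set G)).index)
    (hdegeq : ∀ θ ∈ D.Y, D.ε * (charDegree (θ : G → ℂ) : ℤ) =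
      ∑ᶠ χ ∈ D.X, D.εX χ * (charDegree (χ : G → ℂ) : ℤ))
    (hperf : commutator G = ⊤) (he2 : 2 ≤ e) (hed : e ∣ p - 1)
    (n : ℕ) (hn1 : 1 ≤ n)
    (hs : (Subgroup.normalizer ((P : Subgroup G) : Set G)).index = 1 + n * p)
    (hC : ¬ FormC p n) :
    ∃ χ ∈ D.X, D.εX χ = -1 ∧ charDegree (χ : G → ℂ) + 1 = p := by
  classical
  have hp : p.Prime := Fact.out
  have hp2 : 2 ≤ p := hp.two_le
  obtain ⟨t, ht⟩ := id hed
  have hte : t * e = p - 1 := by rw [ht, mul_comm]
  have hep : e < p := by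
    have : e ≤ p - 1 := Nat.le_of_dvd (by omega) hed
    omega
  have ht1 : 1 ≤ t := by
    rcases Nat.eq_zero_or_pos t with h | h
    · rw [h, mul_zero] at ht; omega
    · exact h
  have hnp : p ≤ n * p := Nat.le_mul_of_pos_left p hn1
  have hs4 : 4 ≤ 1 + n * p := by omega
  by_contra hcon
  push Not at hcon
  -- the degrees in `X`
  have HX : ∀ χ ∈ D.X,
      (D.εX χ = 1 ∧ (charDegree (χ : G → ℂ) = 1 ∨ charDegree (χ : G → ℂ) = 1 + n * p)) ∨
      (D.εX χ = -1 ∧ t = 1 ∧ charDegree (χ : G → ℂ) = (1 + n * p) * e) := by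
    intro χ hχ
    have hdvd : charDegree (χ : G → ℂ) ∣ (1 + n * p) * e := by
      rw [mul_comm, ← hs]; exact hdvdX χ hχ
    have hmod := D.hdegX χ hχ
    rcases D.hεX χ hχ with h1 | h1
    · left
      rw [h1] at hmod
      exact ⟨h1, deg_pos p e n _ hp2 (by omega) hed hep (mod_of_modEq_one hp2 hmod) hdvd hC⟩
    · right
      rw [h1] at hmod
      have hmod' : (charDegree (χ : G → ℂ) + 1) % p = 0 := by
        apply mod_of_modEq_neg (c := 1)
        simpa using hmod
      rcases deg_neg p e t n _ hp2 (by omega) hte hep hmod' hdvd hC with ⟨h2, _⟩ | ⟨h2, h3⟩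
      · exact absurd h2 (hcon χ hχ h1)
      · exact ⟨h1, h2, h3⟩
  have hsum := sum_X_modEq P D hperf (1 + n * p) (by omega) he2 t HX
  -- `Y` is not empty
  have hYne : D.Y.Nonempty := by
    have hc := D.hcY
    have htdiv : (p - 1) / e = t := by rw [ht]; exact Nat.mul_div_cancel_left t (by omega)
    rw [htdiv] at hc
    have hpos : 0 < Nat.card D.Y := by omega
    obtain ⟨⟨θ, hθ⟩⟩ := (Nat.card_pos_iff.mp hpos).1
    exact ⟨θ, hθ⟩
  -- the degrees in `Y`
  have HYpos : ∀ θ ∈ D.Y, D.ε = 1 → charDegree (θ : G → ℂ) = e ∨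
      charDegree (θ : G → ℂ) = (1 + n * p) * e := by
    intro θ hθ hε
    have hdvd : charDegree (θ : G → ℂ) ∣ (1 + n * p) * e := by
      rw [mul_comm, ← hs]; exact hdvdY θ hθ
    have hmod := D.hdegY θ hθ
    rw [hε] at hmod
    exact deg_exc_pos p e n _ hp (by omega) hed hep (mod_of_modEq_pos hep hmod) hdvd hC
  have HYneg : ∀ θ ∈ D.Y, D.ε = -1 →
      (charDegree (θ : G → ℂ) * t = 1 + n * p) ∨ (t = 1 ∧ charDegree (θ : G → ℂ) = 1) := by
    intro θ hθ hε
    have hdvd : charDegree (θ : G → ℂ) ∣ (1 + n * p) * e := by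
      rw [mul_comm, ← hs]; exact hdvdY θ hθ
    have hmod := D.hdegY θ hθ
    rw [hε] at hmod
    rcases deg_exc_neg p e t n _ hp (by omega) hte hep (mod_of_modEq_neg hmod) hdvd hC with
      ⟨u, _, _, h3⟩ | h
    · exact Or.inl h3
    · exact Or.inr h
  by_cases hprX : Helper79.principalIrr G ∈ D.X
  · -- the principal character lies in `X`
    rw [if_pos hprX] at hsum
    obtain ⟨θ, hθ⟩ := hYne
    rw [← hdegeq θ hθ] at hsum
    rcases D.hε with hε | hε
    · rw [hε, one_mul] at hsum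
      rcases HYpos θ hθ hε with hy | hy
      · rw [hy] at hsum
        have h1 : ((1 + n * p : ℕ) : ℤ) ∣ ((e - 1 : ℕ) : ℤ) := by
          rw [Nat.cast_sub (by omega)]
          simpa using hsum
        have h2 := Nat.le_of_dvd (by omega) (Int.natCast_dvd_natCast.mp h1)
        omega
      · rw [hy] at hsum
        have h1 : ((1 + n * p : ℕ) : ℤ) ∣ (((1 + n * p) * e : ℕ) : ℤ) := by
          rw [Nat.cast_mul]; exact dvd_mul_right _ _
        have h2 := dvd_sub h1 hsum
        have e1 : (((1 + n * p) * e : ℕ) : ℤ) - ((((1 + n * p) * e : ℕ) : ℤ) - 1) = 1 := by ring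
        rw [e1] at h2
        have h3 := Int.le_of_dvd one_pos h2
        have h4 : (4 : ℤ) ≤ ((1 + n * p : ℕ) : ℤ) := by exact_mod_cast hs4
        omega
    · rw [hε] at hsum
      have hsum' : ((1 + n * p : ℕ) : ℤ) ∣ ((charDegree (θ : G → ℂ) + 1 : ℕ) : ℤ) := by
        have h1 := (dvd_neg (a := ((1 + n * p : ℕ) : ℤ))).mpr hsum
        have e1 : -(-1 * (charDegree (θ : G → ℂ) : ℤ) - 1) =
            ((charDegree (θ : G → ℂ) + 1 : ℕ) : ℤ) := by
          push_cast; ring
        rw [e1] at h1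
        exact h1
      have h2 := Int.natCast_dvd_natCast.mp hsum'
      have h3 := Nat.le_of_dvd (by omega) h2
      rcases HYneg θ hθ hε with hy | ⟨_, hy⟩
      · rcases Nat.lt_or_ge t 2 with ht2 | ht2
        · have ht1' : t = 1 := by omega
          rw [ht1', mul_one] at hy
          rw [hy] at h2
          have h4 : (1 + n * p) ∣ 1 := (Nat.dvd_add_right (dvd_refl _)).mp h2
          have h5 := Nat.le_of_dvd one_pos h4
          omega
        · have h4 : charDegree (θ : G → ℂ) * 2 ≤ charDegree (θ : G → ℂ) * t :=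
            Nat.mul_le_mul_left _ ht2
          omega
      · omega
  · -- the principal character lies in `Y`
    rw [if_neg hprX, sub_zero] at hsum
    have hprY : Helper79.principalIrr G ∈ D.Y := by
      rcases D.hprinc with h | h
      · exact absurd h hprX
      · exact h
    rw [← hdegeq _ hprY, charDegree_principal] at hsum
    rcases D.hε with hε | hε
    · have hmod := D.hdegY _ hprY
      rw [hε, charDegree_principal] at hmod
      have h1 := mod_of_modEq_pos hep hmod
      rw [Nat.mod_eq_of_lt (by omega)] at h1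
      omega
    · rw [hε] at hsum
      have h1 : ((1 + n * p : ℕ) : ℤ) ∣ 1 := by
        have := (dvd_neg (a := ((1 + n * p : ℕ) : ℤ))).mpr hsum
        simpa using this
      have h3 := Int.le_of_dvd one_pos h1
      have h4 : (4 : ℤ) ≤ ((1 + n * p : ℕ) : ℤ) := by exact_mod_cast hs4
      omega

/-- the degree equation (a local copy of piece (F12) `PBlk.degree_equation`) -/
theorem degree_equation' (θ : IrrCharacter G) (hθ : θ ∈ D.Y) :
    D.ε * (charDegree (θ : G → ℂ) : ℤ) =
      ∑ᶠ χ ∈ D.X, D.εX χ * (charDegree (χ : G → ℂ) : ℤ) := by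
  have : Finite (IrrCharacter G) := Helper79.irr_finite'
  have hXfin : D.X.Finite := Set.toFinite _
  have hp : p.Prime := Fact.out
  have h1 : ¬ p ∣ orderOf (1 : G) := by
    rw [orderOf_one]
    exact fun h => hp.one_lt.ne' (Nat.dvd_one.mp h)
  have h := D.hrel θ hθ 1 h1
  rw [Helper79.irr_one, finsum_mem_eq_finite_toFinset_sum _ hXfin] at h
  rw [finsum_mem_eq_finite_toFinset_sum _ hXfin]
  have h2 : ∀ χ ∈ hXfin.toFinset, (D.εX χ : ℂ) * (χ : G → ℂ) 1 =
      ((D.εX χ * (charDegree (χ : G → ℂ) : ℤ) : ℤ) : ℂ) := by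
    intro χ _
    rw [Helper79.irr_one]
    push_cast
    rfl
  rw [Finset.sum_congr rfl h2, ← Int.cast_sum] at h
  have h3 : ((D.ε * (charDegree (θ : G → ℂ) : ℤ) : ℤ) : ℂ) =
      ((∑ χ ∈ hXfin.toFinset, D.εX χ * (charDegree (χ : G → ℂ) : ℤ) : ℤ) : ℂ) := by
    rw [← h]
    push_cast
    rfl
  exact_mod_cast h3

end Cfsg.Agent.Helper68.B43c
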