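import Cfsg.Agent.Helper42.B43c.PBDefs
import Cfsg.Agent.Helper68.B43c.F4a
import Cfsg.Agent.Helper10.B43c.F3

/-!
# S4700, piece (F4): the character of degree `p - 1` (the "mod `s`" argument)
-/

set_option autoImplicit false

namespace Cfsg.Agent.Helper68.B43c

open Cfsg Cfsg.Agent.Helper42.B43c

universe u

variable {G : Type u} [Group G] [Fintype G] {p : ℕ} [Fact p.Prime] (P : Sylow p G) {e : ℕ}
  (D : PBlk P e)

/-- (F4) the character of degree `p - 1`: the "mod `s`" argument. -/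
theorem PBlk.exists_neg (hperf : commutator G = ⊤) (hP : Nat.card P = p)
    (he : (Subgroup.centralizer ((P : Subgroup G) : Set G)).relIndex
      (Subgroup.normalizer ((P : Subgroup G) : Set G)) = e) (he2 : 2 ≤ e) (hed : e ∣ p - 1)
    (n : ℕ) (hn1 : 1 ≤ n)
    (hs : (Subgroup.normalizer ((P : Subgroup G) : Set G)).index = 1 + n * p)
    (hC : ¬ FormC p n) :
    ∃ χ ∈ D.X, D.εX χ = -1 ∧ charDegree (χ : G → ℂ) + 1 = p :=
  exists_neg_of P D (fun χ hχ => Cfsg.Agent.Helper10.B43c.PBlk.deg_dvd_X P D hP he χ hχ)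
    (fun θ hθ => Cfsg.Agent.Helper10.B43c.PBlk.deg_dvd_Y P D hP he θ hθ)
    (fun θ hθ => degree_equation' P D θ hθ) hperf he2 hed n hn1 hs hC

end Cfsg.Agent.Helper68.B43c
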